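import Mathlib
import Groth.Prelude.Def_EtRam
import Groth.Prelude.Def_SGA1
import Groth.Agent.Lib.Helper9.HensK.FiniteLocal
import Groth.Agent.Lib.Helper9.AbhGen.TrivField
import Groth.Agent.Lib.Helper9.AbhSch.ResField

/-!
# Finite domains over a strictly henselian local ring; embedding into the Kummer field (helper9)
-/

universe u

open IsLocalRing EtRam

namespace Groth.Agent.Lib.Helper9.KumCov

open Groth.Agent.Lib.Helper9.AbhAbs Groth.Agent.Lib.Helper9.KummerTame
  Groth.Agent.Lib.Helper9.AbhSch Groth.Agent.Lib.Helper9.AbhGen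

section FiniteDomain

/-- a domain finite over a henselian local ring is local. -/
theorem isLocalRing_of_finite_domain (A : Type u) [CommRing A] [HenselianLocalRing A]
    (B : Type u) [CommRing B] [IsDomain B] [Algebra A B] [Module.Finite A B] : IsLocalRing B := by
  obtain ⟨q, hq⟩ := Ideal.exists_maximal B
  haveI := hq
  have hsurj := Groth.Agent.Lib.Helper3.algebraMap_localization_surjective_of_finite A B q
  have hinj : Function.Injective (algebraMap B (Localization.AtPrime q)) :=
    IsLocalization.injective _ (Ideal.primeCompl_le_nonZeroDivisors q)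
  obtain ⟨e, -⟩ : ∃ e : B ≃+* Localization.AtPrime q, True :=
    ⟨RingEquiv.ofBijective (algebraMap B (Localization.AtPrime q)) ⟨hinj, hsurj⟩, trivial⟩
  exact IsLocalRing.of_surjective' (e.symm : Localization.AtPrime q →+* B) e.symm.surjective

theorem henselianLocalRing_of_finite (A : Type u) [CommRing A] [HenselianLocalRing A]
    (B : Type u) [CommRing B] [Algebra A B] [Module.Finite A B] [IsLocalRing B] :
    HenselianLocalRing B := by
  haveI : Algebra.IsIntegral A B := Algebra.IsIntegral.of_finite A B
  exact Groth.Agent.Lib.Helper9.HensK.henselianLocalRing_of_isIntegral A B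

theorem isSepClosed_residueField_of_finite (A : Type u) [CommRing A] [IsLocalRing A]
    (B : Type u) [CommRing B] [Algebra A B] [Module.Finite A B] [IsLocalRing B]
    [IsSepClosed (ResidueField A)] : IsSepClosed (ResidueField B) := by
  haveI : Algebra.IsIntegral A B := Algebra.IsIntegral.of_finite A B
  haveI : IsLocalHom (algebraMap A B) := Groth.Agent.Lib.Helper9.HensK.isLocalHom_of_finite A B
  haveI : Algebra.IsIntegral (ResidueField A) (ResidueField B) := by
    constructor
    intro x
    obtain ⟨y, rfl⟩ := residue_surjective x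
    have h1 : IsIntegral A y := Algebra.IsIntegral.isIntegral y
    have h2 : IsIntegral A (residue B y) :=
      h1.map (IsScalarTower.toAlgHom A B (ResidueField B))
    exact h2.tower_top
  haveI : Algebra.IsAlgebraic (ResidueField A) (ResidueField B) :=
    Algebra.IsIntegral.isAlgebraic
  exact Algebra.IsAlgebraic.isSepClosed (F := ResidueField A)

/-- a local ring is regular if its localization at the maximal ideal is. -/
theorem isRegularLocalRing_of_atPrime (B : Type u) [CommRing B] [IsLocalRing B]
    (h : IsRegularLocalRing (Localization.AtPrime (maximalIdeal B))) : IsRegularLocalRing B := by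
  have hu : ∀ x ∈ (maximalIdeal B).primeCompl, IsUnit x := by
    intro x hx
    exact IsLocalRing.notMem_maximalIdeal.mp hx
  obtain ⟨e, -⟩ : ∃ e : B ≃ₐ[B] Localization.AtPrime (maximalIdeal B), True :=
    ⟨IsLocalization.atUnits B (maximalIdeal B).primeCompl hu, trivial⟩
  exact IsRegularLocalRing.of_ringEquiv e.symm.toRingEquiv

end FiniteDomain

section Embed

variable (R : Type u) [CommRing R] [IsRegularLocalRing R] [IsDomain R] {r : ℕ} (t : Fin r → R)
  (hm : ∀ i, t i ∈ maximalIdeal R)
  (hf : LinearIndependent (ResidueField R) (fun i => (maximalIdeal R).toCotangent ⟨t i, hm i⟩))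
  (n : Fin r → ℕ) (hn : ∀ i, 1 ≤ n i)
  (L : Type u) [Field L] [Algebra R L] [FaithfulSMul R L]
  (hfin : letI := FractionRing.liftAlgebra R L; FiniteDimensional (FractionRing R) L)
  (hsep : letI := FractionRing.liftAlgebra R L; Algebra.IsSeparable (FractionRing R) L)

include hm hf hn hfin hsep in
/-- a field trivialized by a Kummer extension embeds into the fraction field of the Kummer
algebra. -/
theorem exists_embedding_of_triv [IsDomain (SGA1.kummerAlg R t n)] (hT : Triv R t n L) :
    ∃ i : L →+* (⊥ : Ideal (SGA1.kummerAlg R t n)).ResidueField, ∀ a : R,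
      i (algebraMap R L a) = algebraMap (SGA1.kummerAlg R t n)
        (⊥ : Ideal (SGA1.kummerAlg R t n)).ResidueField
        (algebraMap R (SGA1.kummerAlg R t n) a) := by
  classical
  obtain ⟨N, fN, algBN, faithBN, i, hcompat, hgen⟩ :=
    exists_compositum_kummer R t hm hf n hn L hfin hsep
  haveI hfr : IsFractionRing (SGA1.kummerAlg R t n) N :=
    isFractionRing_of_triv R t n L hT N i hcompat hgen
  obtain ⟨e, -⟩ : ∃ e : N ≃ₐ[SGA1.kummerAlg R t n]
      (⊥ : Ideal (SGA1.kummerAlg R t n)).ResidueField, True :=
    ⟨IsLocalization.algEquiv (nonZeroDivisors (SGA1.kummerAlg R t n)) N _, trivial⟩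
  refine ⟨(e : N →+* (⊥ : Ideal (SGA1.kummerAlg R t n)).ResidueField).comp i, fun a => ?_⟩
  rw [RingHom.comp_apply, hcompat]
  exact e.commutes _

end Embed

end Groth.Agent.Lib.Helper9.KumCov
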