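import Mathlib
import Groth.Prelude.Def_EtRam
import Groth.Prelude.Def_SGA1
import Groth.Agent.Lib.Helper9.AbhGen.DvdTriv

/-!
# Valuation rings of the Kummer field over `(t_j)`: structure, uniqueness (helper9)
-/

universe u

open IsLocalRing EtRam

namespace Groth.Agent.Lib.Helper9.KumCov

open Groth.Agent.Lib.Helper9.AbhAbs Groth.Agent.Lib.Helper9.KummerTame
  Groth.Agent.Lib.Helper9.AbhyankarCore Groth.Agent.Lib.Helper9.DVRExt
  Groth.Agent.Lib.Helper9.TameBase Groth.Agent.Lib.Helper9.AbhGen

set_option maxHeartbeats 1000000 in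
/-- ramification indices are multiplicative in towers. -/
theorem eV_mul {A : Type u} [CommRing A] [IsDomain A] [IsDiscreteValuationRing A]
    {L L' : Type u} [Field L] [Field L'] (g : A →+* L) (hg : Function.Injective g) (i : L →+* L')
    (V' : ValuationSubring L') (hdom' : Dominates A (i.comp g) V')
    (hdom : Dominates A g (V'.comap i))
    [IsDiscreteValuationRing V'] [IsDiscreteValuationRing (V'.comap i)] :
    eV (i.comp g) V' hdom' =
      @Ideal.ramificationIdx' (V'.comap i) _ V' _ (inclOfComap V' i).toAlgebra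
        (maximalIdeal (V'.comap i)) (maximalIdeal V') * eV g (V'.comap i) hdom := by
  classical
  obtain ⟨π, hπ⟩ := IsDiscreteValuationRing.exists_irreducible A
  obtain ⟨ϖ, hϖ⟩ := IsDiscreteValuationRing.exists_irreducible (V'.comap i)
  obtain ⟨τ, hτ⟩ := IsDiscreteValuationRing.exists_irreducible V'
  letI algAV : Algebra A (V'.comap i) := (RingHom.codRestrict g (V'.comap i) hdom.1).toAlgebra
  haveI hloc1 : IsLocalHom (algebraMap A (V'.comap i)) := isLocalHom_of_dominates g _ hdom
  have hinjAV : Function.Injective (algebraMap A (V'.comap i)) := by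
    intro a b h
    exact hg (congrArg (fun v : V'.comap i => (v : L)) h)
  obtain ⟨he0, w, hw⟩ := exists_eq_unit_mul_pow hinjAV hπ hϖ
  letI algAV' : Algebra A V' := (RingHom.codRestrict (i.comp g) V' hdom'.1).toAlgebra
  haveI hloc2 : IsLocalHom (algebraMap A V') := isLocalHom_of_dominates _ V' hdom'
  have hinjAV' : Function.Injective (algebraMap A V') := by
    intro a b h
    have h1 : i (g a) = i (g b) := congrArg (fun v : V' => (v : L')) h
    exact hg (i.injective h1)
  obtain ⟨he0', w', hw'⟩ := exists_eq_unit_mul_pow hinjAV' hπ hτ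
  have hιinj : Function.Injective (inclOfComap V' i) := by
    intro a b hab
    have := congrArg (fun v : V' => (v : L')) hab
    exact Subtype.ext (i.injective this)
  letI algVV' : Algebra (V'.comap i) V' := (inclOfComap V' i).toAlgebra
  haveI hloc3 : IsLocalHom (algebraMap (V'.comap i) V') := isLocalHom_inclOfComap V' i
  obtain ⟨hc0, y, hy⟩ := exists_eq_unit_mul_pow (A := V'.comap i) (V := V') hιinj hϖ hτ
  have hy' : inclOfComap V' i ϖ =
      y * τ ^ Ideal.ramificationIdx' (maximalIdeal (V'.comap i)) (maximalIdeal V') := hy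
  have hcomp : algebraMap A V' π = inclOfComap V' i (algebraMap A (V'.comap i) π) :=
    Subtype.ext rfl
  have hkey : (w' : V') * τ ^ (Ideal.ramificationIdx' (maximalIdeal A) (maximalIdeal V')) =
      ((Units.map ((inclOfComap V' i : _ →+* V') : _ →* V') w *
        y ^ (Ideal.ramificationIdx' (maximalIdeal A) (maximalIdeal (V'.comap i))) : V'ˣ) : V') *
      τ ^ (Ideal.ramificationIdx' (maximalIdeal (V'.comap i)) (maximalIdeal V') *
        Ideal.ramificationIdx' (maximalIdeal A) (maximalIdeal (V'.comap i))) := by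
    rw [← hw', hcomp, hw, map_mul, map_pow, hy']
    simp only [Units.val_mul, Units.val_pow_eq_pow_val, Units.coe_map, MonoidHom.coe_coe]
    ring
  have hem := IsDiscreteValuationRing.unit_mul_pow_congr_pow hτ hτ _ _ _ _ hkey
  exact hem

section Kummer

variable (R : Type u) [CommRing R] [IsRegularLocalRing R] [IsDomain R] {r : ℕ} (t : Fin r → R)
  (hm : ∀ i, t i ∈ maximalIdeal R)
  (hf : LinearIndependent (ResidueField R) (fun i => (maximalIdeal R).toCotangent ⟨t i, hm i⟩))
  (n : Fin r → ℕ) (hn : ∀ i, 1 ≤ n i)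

include hm hf hn in
set_option maxHeartbeats 2000000 in
/-- a valuation subring of the fraction field of the Kummer algebra dominating `R_(t_j)` is the
localization of the Kummer algebra at `(T_j)`, and its ramification index is `n j`. -/
theorem kummer_dominating (j : Fin r) [(Ideal.span ({t j} : Set R)).IsPrime]
    (N : Type u) [Field N] [Algebra (SGA1.kummerAlg R t n) N]
    [IsDomain (SGA1.kummerAlg R t n)] [IsFractionRing (SGA1.kummerAlg R t n) N]
    (g : Localization.AtPrime (Ideal.span ({t j} : Set R)) →+* N)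
    (hloc : ∀ a : R, g (algebraMap R (Localization.AtPrime (Ideal.span ({t j} : Set R))) a) =
      algebraMap (SGA1.kummerAlg R t n) N (algebraMap R (SGA1.kummerAlg R t n) a))
    (W : ValuationSubring N)
    (hdom : Dominates (Localization.AtPrime (Ideal.span ({t j} : Set R))) g W) :
    (∀ x : N, x ∈ W ↔ ∃ a b : SGA1.kummerAlg R t n,
      b ∉ Ideal.span ({T t n j} : Set (SGA1.kummerAlg R t n)) ∧
      x * algebraMap (SGA1.kummerAlg R t n) N b = algebraMap (SGA1.kummerAlg R t n) N a) ∧
    eV g W hdom = n j := by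
  classical
  haveI hreg : IsRegularLocalRing (SGA1.kummerAlg R t n) :=
    isRegularLocalRing_kummer R t hm hf n hn
  haveI := isIntegral_kummer R t n hn
  haveI := faithfulSMul_kummer R t n hn
  have h𝔭ht : (Ideal.span ({t j} : Set R)).height = 1 :=
    height_span_singleton _ (ne_zero_of_linearIndependent t hm hf j)
  haveI := isDVR_of_height_eq_one R _ h𝔭ht
  haveI hPT := isPrime_span_T R t hm hf n hn j
  have hTht : (Ideal.span ({T t n j} : Set (SGA1.kummerAlg R t n))).height = 1 :=
    height_span_singleton _ (T_ne_zero R t hm hf n hn j)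
  haveI := isDVR_of_height_eq_one (SGA1.kummerAlg R t n) _ hTht
  have hinjBN : Function.Injective (algebraMap (SGA1.kummerAlg R t n) N) :=
    IsFractionRing.injective _ _
  have hRmem : ∀ a : R,
      algebraMap (SGA1.kummerAlg R t n) N (algebraMap R (SGA1.kummerAlg R t n) a) ∈ W := by
    intro a
    rw [← hloc]
    exact hdom.1 _
  letI algRN : Algebra R N :=
    ((algebraMap (SGA1.kummerAlg R t n) N).comp (algebraMap R (SGA1.kummerAlg R t n))).toAlgebra
  have hBmem : ∀ b : SGA1.kummerAlg R t n, algebraMap (SGA1.kummerAlg R t n) N b ∈ W := by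
    intro b
    apply mem_of_isIntegral W hRmem
    obtain ⟨p, hpm, hp⟩ := Algebra.IsIntegral.isIntegral (R := R) b
    refine ⟨p, hpm, ?_⟩
    show Polynomial.eval₂ ((algebraMap (SGA1.kummerAlg R t n) N).comp
      (algebraMap R (SGA1.kummerAlg R t n))) _ p = 0
    rw [← Polynomial.hom_eval₂, hp, map_zero]
  obtain ⟨β, hβ⟩ : ∃ β : SGA1.kummerAlg R t n →+* W,
      β = (algebraMap (SGA1.kummerAlg R t n) N).codRestrict W hBmem := ⟨_, rfl⟩
  have hβc : ∀ b, ((β b : W) : N) = algebraMap (SGA1.kummerAlg R t n) N b := by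
    intro b
    rw [hβ]
    rfl
  obtain ⟨𝔓, h𝔓def⟩ : ∃ 𝔓 : Ideal (SGA1.kummerAlg R t n), 𝔓 = (maximalIdeal W).comap β :=
    ⟨_, rfl⟩
  haveI h𝔓prime : 𝔓.IsPrime := by
    rw [h𝔓def]
    exact Ideal.comap_isPrime β _
  have hval : ∀ b, b ∈ 𝔓 ↔ W.valuation (algebraMap (SGA1.kummerAlg R t n) N b) < 1 := by
    intro b
    rw [h𝔓def, Ideal.mem_comap, ← hβc]
    exact ValuationSubring.valuation_lt_one_iff W _
  have htjmax : algebraMap R (Localization.AtPrime (Ideal.span ({t j} : Set R))) (t j) ∈
      maximalIdeal (Localization.AtPrime (Ideal.span ({t j} : Set R))) :=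
    (IsLocalization.AtPrime.to_map_mem_maximal_iff _ (Ideal.span ({t j} : Set R)) _).mpr
      (Ideal.mem_span_singleton_self _)
  have hTj : T t n j ∈ 𝔓 := by
    rw [hval]
    apply valuation_lt_one_of_pow W (n := n j) (by have := hn j; omega)
    rw [← map_pow, T_pow, ← hloc]
    exact hdom.2 _ htjmax
  have hunder : 𝔓.comap (algebraMap R (SGA1.kummerAlg R t n)) = Ideal.span ({t j} : Set R) := by
    ext a
    rw [Ideal.mem_comap, hval, ← hloc]
    constructor
    · intro h
      by_contra ha
      have hu : IsUnit (algebraMap R (Localization.AtPrime (Ideal.span ({t j} : Set R))) a) :=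
        IsLocalization.map_units _ (⟨a, ha⟩ : (Ideal.span ({t j} : Set R)).primeCompl)
      have hu' : IsUnit (RingHom.codRestrict g W hdom.1
          (algebraMap R (Localization.AtPrime (Ideal.span ({t j} : Set R))) a)) := hu.map _
      have h1 := (W.valuation_eq_one_iff _).mp hu'
      exact h.ne h1
    · intro ha
      exact hdom.2 _
        ((IsLocalization.AtPrime.to_map_mem_maximal_iff _ (Ideal.span ({t j} : Set R)) a).mpr ha)
  haveI hlies := liesOver_span_T R t hm hf n hn j
  have h𝔓eq : Ideal.span ({T t n j} : Set (SGA1.kummerAlg R t n)) = 𝔓 := by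
    by_contra hne
    have hle : Ideal.span ({T t n j} : Set (SGA1.kummerAlg R t n)) ≤ 𝔓 :=
      (Ideal.span_singleton_le_iff_mem _).mpr hTj
    have hlt := lt_of_le_of_ne hle hne
    obtain ⟨x, hx𝔓, hxT⟩ := SetLike.exists_of_lt hlt
    have h1 := Ideal.comap_lt_comap_of_integral_mem_sdiff hle ⟨hx𝔓, hxT⟩
      (Algebra.IsIntegral.isIntegral (R := R) x)
    rw [hunder] at h1
    have h2 : (Ideal.span ({T t n j} : Set (SGA1.kummerAlg R t n))).comap
        (algebraMap R (SGA1.kummerAlg R t n)) = Ideal.span ({t j} : Set R) :=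
      (Ideal.LiesOver.over (p := Ideal.span ({t j} : Set R))
        (P := Ideal.span ({T t n j} : Set (SGA1.kummerAlg R t n)))).symm
    rw [h2] at h1
    exact lt_irrefl _ h1
  have hunits : ∀ y : (Ideal.span ({T t n j} : Set (SGA1.kummerAlg R t n))).primeCompl,
      IsUnit (β y) := by
    intro y
    by_contra hnu
    apply y.2
    have h1 : (y : SGA1.kummerAlg R t n) ∈ 𝔓 := by
      rw [h𝔓def]
      exact hnu
    exact (SetLike.ext_iff.mp h𝔓eq (y : SGA1.kummerAlg R t n)).mpr h1
  obtain ⟨χ, hχdef⟩ : ∃ χ : Localization.AtPrime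
      (Ideal.span ({T t n j} : Set (SGA1.kummerAlg R t n))) →+* W,
      χ = IsLocalization.lift
        (M := (Ideal.span ({T t n j} : Set (SGA1.kummerAlg R t n))).primeCompl) hunits := ⟨_, rfl⟩
  have hχ : ∀ b, χ (algebraMap (SGA1.kummerAlg R t n) _ b) = β b := by
    intro b
    rw [hχdef]
    exact IsLocalization.lift_eq hunits b
  have hτ : Irreducible (algebraMap (SGA1.kummerAlg R t n)
      (Localization.AtPrime (Ideal.span ({T t n j} : Set (SGA1.kummerAlg R t n)))) (T t n j)) :=
    (isDVR_localization_principal (T t n j) (T_ne_zero R t hm hf n hn j)).2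
  have hχτ : ¬ IsUnit (χ (algebraMap (SGA1.kummerAlg R t n) _ (T t n j))) := by
    rw [hχ]
    have : T t n j ∈ (maximalIdeal W).comap β := h𝔓def ▸ hTj
    exact this
  haveI hlocχ : IsLocalHom χ :=
    isLocalHom_of_uniformizer (D := Localization.AtPrime
      (Ideal.span ({T t n j} : Set (SGA1.kummerAlg R t n)))) (R := W) χ
      (ϖ := algebraMap (SGA1.kummerAlg R t n) _ (T t n j)) hτ hχτ
  have hχinj : Function.Injective χ := by
    apply injective_of_uniformizer (D := Localization.AtPrime
      (Ideal.span ({T t n j} : Set (SGA1.kummerAlg R t n)))) (R := W) χ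
      (ϖ := algebraMap (SGA1.kummerAlg R t n) _ (T t n j)) hτ
    rw [hχ]
    intro h0
    have h1 : algebraMap (SGA1.kummerAlg R t n) N (T t n j) = 0 := by
      rw [← hβc, h0]
      rfl
    exact T_ne_zero R t hm hf n hn j (hinjBN (by rw [h1, map_zero]))
  have hχbij : Function.Bijective χ := by
    apply bijective_of_generates (D := Localization.AtPrime
      (Ideal.span ({T t n j} : Set (SGA1.kummerAlg R t n)))) W χ hχinj
    intro E hE
    rw [eq_top_iff]
    intro x _
    obtain ⟨a, b, hb, rfl⟩ := IsFractionRing.div_surjective (A := SGA1.kummerAlg R t n) x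
    refine div_mem ?_ ?_
    · have := hE (algebraMap (SGA1.kummerAlg R t n) _ a)
      rwa [hχ, hβc] at this
    · have := hE (algebraMap (SGA1.kummerAlg R t n) _ b)
      rwa [hχ, hβc] at this
  refine ⟨?_, ?_⟩
  · -- characterization of `W`
    intro x
    constructor
    · intro hx
      obtain ⟨y, hy⟩ := hχbij.2 ⟨x, hx⟩
      obtain ⟨a, s, rfl⟩ := IsLocalization.exists_mk'_eq
        (Ideal.span ({T t n j} : Set (SGA1.kummerAlg R t n))).primeCompl y
      refine ⟨a, (s : SGA1.kummerAlg R t n), s.2, ?_⟩
      have h1 : χ (IsLocalization.mk' _ a s) * χ (algebraMap (SGA1.kummerAlg R t n) _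
          (s : SGA1.kummerAlg R t n)) = χ (algebraMap (SGA1.kummerAlg R t n) _ a) := by
        rw [← map_mul, IsLocalization.mk'_spec]
      rw [hy, hχ, hχ] at h1
      have h2 := congrArg (fun v : W => (v : N)) h1
      simp only [MulMemClass.coe_mul] at h2
      rw [hβc, hβc] at h2
      exact h2
    · rintro ⟨a, b, hb, hx⟩
      have hbu : IsUnit (β b) := hunits ⟨b, hb⟩
      obtain ⟨u, hu⟩ := hbu
      have hb0 : algebraMap (SGA1.kummerAlg R t n) N b ≠ 0 := by
        intro h0
        apply hb
        have : b = 0 := hinjBN (by rw [h0, map_zero])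
        rw [this]
        exact Ideal.zero_mem _
      have h1 : x = ((β a * ((u⁻¹ : Wˣ) : W) : W) : N) := by
        have h2 : ((u : W) : N) = algebraMap (SGA1.kummerAlg R t n) N b := by
          rw [hu, hβc]
        have h3 : (((u : W) * ((u⁻¹ : Wˣ) : W) : W) : N) = 1 := by
          rw [Units.mul_inv]
          rfl
        simp only [MulMemClass.coe_mul] at h3
        rw [h2] at h3
        simp only [MulMemClass.coe_mul]
        rw [hβc, ← hx, mul_assoc, h3, mul_one]
      rw [h1]
      exact (β a * ((u⁻¹ : Wˣ) : W)).2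
  · -- the ramification index
    haveI hdvrW : IsDiscreteValuationRing W :=
      IsDiscreteValuationRing.RingEquivClass.isDiscreteValuationRing
        (RingEquiv.ofBijective χ hχbij)
    have hτ'' : Irreducible (χ (algebraMap (SGA1.kummerAlg R t n) _ (T t n j))) :=
      (MulEquiv.irreducible_iff (RingEquiv.ofBijective χ hχbij).toMulEquiv).mpr hτ
    letI algA₀W : Algebra (Localization.AtPrime (Ideal.span ({t j} : Set R))) W :=
      (RingHom.codRestrict g W hdom.1).toAlgebra
    haveI hloc'' : IsLocalHom (algebraMap (Localization.AtPrime (Ideal.span ({t j} : Set R))) W) :=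
      isLocalHom_of_dominates _ W hdom
    have hπ : Irreducible (algebraMap R (Localization.AtPrime (Ideal.span ({t j} : Set R)))
        (t j)) := by
      rw [IsDiscreteValuationRing.irreducible_iff_uniformizer,
        ← Localization.AtPrime.map_eq_maximalIdeal, Ideal.map_span, Set.image_singleton]
    have hginj : Function.Injective g := by
      apply injective_of_uniformizer (D := Localization.AtPrime (Ideal.span ({t j} : Set R)))
        (R := N) g (ϖ := algebraMap R _ (t j)) hπ
      rw [hloc]
      intro h0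
      have h1 : algebraMap R (SGA1.kummerAlg R t n) (t j) = 0 := hinjBN (by rw [h0, map_zero])
      exact ne_zero_of_linearIndependent t hm hf j
        (algebraMap_kummer_injective R t n hn (by rw [h1, map_zero]))
    have hinjA₀W : Function.Injective
        (algebraMap (Localization.AtPrime (Ideal.span ({t j} : Set R))) W) := by
      intro a b h
      have h1 : g a = g b := congrArg (fun v : W => (v : N)) h
      exact hginj h1
    obtain ⟨he0, w, hw⟩ := exists_eq_unit_mul_pow hinjA₀W hπ hτ''
    have hpow : algebraMap (Localization.AtPrime (Ideal.span ({t j} : Set R))) W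
        (algebraMap R _ (t j)) =
        ((1 : Wˣ) : W) * (χ (algebraMap (SGA1.kummerAlg R t n) _ (T t n j))) ^ (n j) := by
      rw [Units.val_one, one_mul, hχ]
      apply Subtype.ext
      rw [SubmonoidClass.coe_pow, hβc, ← map_pow, T_pow, ← hloc]
      rfl
    exact IsDiscreteValuationRing.unit_mul_pow_congr_pow hτ'' hτ'' w 1 _ _ (hw.symm.trans hpow)

end Kummer

section Unique

variable (R : Type u) [CommRing R] [IsRegularLocalRing R] [IsDomain R] {r : ℕ} (t : Fin r → R)
  (hm : ∀ i, t i ∈ maximalIdeal R)
  (hf : LinearIndependent (ResidueField R) (fun i => (maximalIdeal R).toCotangent ⟨t i, hm i⟩))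
  (n : Fin r → ℕ) (hn : ∀ i, 1 ≤ n i)
  (L : Type u) [Field L] [Algebra R L] [FaithfulSMul R L]
  (hfin : letI := FractionRing.liftAlgebra R L; FiniteDimensional (FractionRing R) L)
  (hsep : letI := FractionRing.liftAlgebra R L; Algebra.IsSeparable (FractionRing R) L)

include hm hf hn hfin hsep in
set_option maxHeartbeats 1000000 in
/-- if a Kummer extension trivializes `L`, there is at most one valuation subring of `L`
dominating `R_(t_j)`. -/
theorem unique_dominating_of_triv (hT : Triv R t n L) (j : Fin r)
    [(Ideal.span ({t j} : Set R)).IsPrime] (V V' : ValuationSubring L)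
    (hdom : Dominates (Localization.AtPrime (Ideal.span ({t j} : Set R)))
      (locLift R L (Ideal.span ({t j} : Set R))) V)
    (hdom' : Dominates (Localization.AtPrime (Ideal.span ({t j} : Set R)))
      (locLift R L (Ideal.span ({t j} : Set R))) V') : V = V' := by
  classical
  haveI hreg : IsRegularLocalRing (SGA1.kummerAlg R t n) :=
    isRegularLocalRing_kummer R t hm hf n hn
  haveI : IsDomain (SGA1.kummerAlg R t n) :=
    Groth.Agent.Lib.Helper85.isDomain_of_isRegularLocalRing _
  obtain ⟨N, fN, algBN, faithBN, i, hcompat, hgen⟩ :=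
    exists_compositum_kummer R t hm hf n hn L hfin hsep
  haveI hfr : IsFractionRing (SGA1.kummerAlg R t n) N :=
    isFractionRing_of_triv R t n L hT N i hcompat hgen
  obtain ⟨W, hW⟩ := exists_extension V i
  obtain ⟨W', hW'⟩ := exists_extension V' i
  have hloc : ∀ a : R, (i.comp (locLift R L (Ideal.span ({t j} : Set R))))
      (algebraMap R (Localization.AtPrime (Ideal.span ({t j} : Set R))) a) =
      algebraMap (SGA1.kummerAlg R t n) N (algebraMap R (SGA1.kummerAlg R t n) a) := by
    intro a
    rw [RingHom.comp_apply, locLift_algebraMap, hcompat]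
  have hdomW : Dominates (Localization.AtPrime (Ideal.span ({t j} : Set R)))
      (i.comp (locLift R L (Ideal.span ({t j} : Set R)))) W := by
    subst hW
    exact ⟨fun a => hdom.1 a, fun a ha => (valuation_comap_lt_one_iff W i _).mp (hdom.2 a ha)⟩
  have hdomW' : Dominates (Localization.AtPrime (Ideal.span ({t j} : Set R)))
      (i.comp (locLift R L (Ideal.span ({t j} : Set R)))) W' := by
    subst hW'
    exact ⟨fun a => hdom'.1 a, fun a ha => (valuation_comap_lt_one_iff W' i _).mp (hdom'.2 a ha)⟩
  have h1 := (kummer_dominating R t hm hf n hn j N _ hloc W hdomW).1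
  have h2 := (kummer_dominating R t hm hf n hn j N _ hloc W' hdomW').1
  have hWW' : W = W' := by
    ext x
    rw [h1, h2]
  rw [← hW, ← hW', hWW']

end Unique

end Groth.Agent.Lib.Helper9.KumCov
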