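import Mathlib
import Groth.Prelude.Def_EtRam
import Groth.Prelude.Def_SGA1
import Groth.Agent.Lib.Helper9.AbhGen.GoodGen

/-!
# The fraction fields of finite tame covers (and of Kummer algebras) are good (helper9)
-/

universe u

open IsLocalRing EtRam TensorProduct MvPolynomial

namespace Groth.Agent.Lib.Helper9.KumCov

open Groth.Agent.Lib.Helper9.AbhAbs Groth.Agent.Lib.Helper9.KummerTame
  Groth.Agent.Lib.Helper9.AbhSch Groth.Agent.Lib.Helper9.AbhGen

section Etale

variable {R : Type u} [CommRing R] {r : ℕ} (f : Fin r → R) (n : Fin r → ℕ)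

set_option maxHeartbeats 1000000 in
/-- the base change of a Kummer algebra to a ring where the `f_j` and `n_j` are invertible is
étale. -/
theorem etale_tensor_kummer (S : Type u) [CommRing S] [Algebra R S] (hn1 : ∀ j, 1 ≤ n j)
    (hn : ∀ j, IsUnit ((n j : ℕ) : S)) (hu : ∀ j, IsUnit (algebraMap R S (f j))) :
    Algebra.Etale S (S ⊗[R] SGA1.kummerAlg R f n) := by
  classical
  let P0 : Algebra.Presentation R (SGA1.kummerAlg R f n) (Fin r) (Fin r) :=
    Algebra.Presentation.naive (v := fun i => (X i : MvPolynomial (Fin r) R) ^ n i - C (f i))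
  let P : Algebra.PreSubmersivePresentation R (SGA1.kummerAlg R f n) (Fin r) (Fin r) :=
    { toPresentation := P0, map := id, map_inj := Function.injective_id }
  have hjac : P.jacobian = (Ideal.Quotient.mk _
      (∏ i, (C ((n i : ℕ) : R) * X i ^ (n i - 1))) : SGA1.kummerAlg R f n) := by
    rw [Algebra.PreSubmersivePresentation.jacobian_eq_jacobiMatrix_det]
    have hM : P.jacobiMatrix = Matrix.diagonal
        (fun i => (C ((n i : ℕ) : R) * X i ^ (n i - 1) : MvPolynomial (Fin r) R)) := by
      apply Matrix.ext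
      intro i j
      rw [Algebra.PreSubmersivePresentation.jacobiMatrix_apply]
      show pderiv i ((X j : MvPolynomial (Fin r) R) ^ n j - C (f j)) = _
      rw [Matrix.diagonal_apply]
      by_cases hij : i = j
      · subst hij
        simp [Derivation.leibniz_pow]
      · have hji : j ≠ i := fun h => hij h.symm
        simp [Derivation.leibniz_pow, pderiv_X_of_ne hji, hij]
    rw [hM, Matrix.det_diagonal]
    rfl
  obtain ⟨ι, hι⟩ : ∃ ι : SGA1.kummerAlg R f n →ₐ[R] S ⊗[R] SGA1.kummerAlg R f n,
      ι = (Algebra.TensorProduct.includeRight :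
        SGA1.kummerAlg R f n →ₐ[R] S ⊗[R] SGA1.kummerAlg R f n) := ⟨_, rfl⟩
  have hιR : ∀ a : R, ι (algebraMap R (SGA1.kummerAlg R f n) a) =
      (Algebra.TensorProduct.includeLeft : S →ₐ[S] S ⊗[R] SGA1.kummerAlg R f n)
        (algebraMap R S a) := by
    intro a
    rw [hι, Algebra.TensorProduct.includeRight_apply, Algebra.TensorProduct.includeLeft_apply,
      Algebra.algebraMap_eq_smul_one, Algebra.algebraMap_eq_smul_one, TensorProduct.smul_tmul]
  have hK : P.jacobian * ∏ i, T f n i =
      algebraMap R (SGA1.kummerAlg R f n) (∏ i, (((n i : ℕ) : R) * f i)) := by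
    rw [hjac, map_prod, ← Finset.prod_mul_distrib, map_prod]
    apply Finset.prod_congr rfl
    intro i _
    rw [map_mul (Ideal.Quotient.mk _), map_pow]
    show algebraMap R (SGA1.kummerAlg R f n) ((n i : ℕ) : R) * T f n i ^ (n i - 1) * T f n i = _
    rw [mul_assoc, ← pow_succ, Nat.sub_add_cancel (hn1 i), T_pow, ← map_mul]
  have hcu : IsUnit (algebraMap R S (∏ i, (((n i : ℕ) : R) * f i))) := by
    rw [map_prod, IsUnit.prod_univ_iff]
    intro i
    rw [map_mul, map_natCast]
    exact (hn i).mul (hu i)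
  have hJu : IsUnit (P.baseChange S).jacobian := by
    rw [Algebra.PreSubmersivePresentation.baseChange_jacobian]
    have h1 : ((1 : S) ⊗ₜ[R] P.jacobian) = ι P.jacobian := by
      rw [hι]
      rfl
    rw [h1]
    have h2 : ι P.jacobian * ι (∏ i, T f n i) =
        (Algebra.TensorProduct.includeLeft : S →ₐ[S] S ⊗[R] SGA1.kummerAlg R f n)
          (algebraMap R S (∏ i, (((n i : ℕ) : R) * f i))) := by
      rw [← map_mul, hK, hιR]
    have h3 : IsUnit (ι P.jacobian * ι (∏ i, T f n i)) := by
      rw [h2]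
      exact hcu.map _
    exact isUnit_of_mul_isUnit_left h3
  let Q : Algebra.SubmersivePresentation S (S ⊗[R] SGA1.kummerAlg R f n) (Fin r) (Fin r) :=
    { toPreSubmersivePresentation := P.baseChange S
      jacobian_isUnit := hJu }
  haveI hss : Algebra.IsStandardSmoothOfRelativeDimension 0 S (S ⊗[R] SGA1.kummerAlg R f n) :=
    Q.isStandardSmoothOfRelativeDimension (by
      show Nat.card _ - Nat.card _ = 0
      exact Nat.sub_self _)
  infer_instance

end Etale

section GoodFinite

variable (A : Type u) [CommRing A] [IsRegularLocalRing A] [IsDomain A] {r : ℕ} (f : Fin r → A)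
  [∀ i, (Ideal.span {f i}).IsPrime] (hF : (∏ i, f i) ≠ 0)
  (B : Type u) [CommRing B] [IsDomain B] [Algebra A B] [Module.Finite A B]
  [Algebra.Etale (Localization.Away (∏ i, f i)) ((Localization.Away (∏ i, f i)) ⊗[A] B)]
  [Algebra A (⊥ : Ideal B).ResidueField] [IsScalarTower A B (⊥ : Ideal B).ResidueField]
  [FaithfulSMul A (⊥ : Ideal B).ResidueField]

include hF in
set_option maxHeartbeats 1000000 in
/-- the fraction field of a finite domain over `A`, étale over `A[1/∏ f_i]` and tame along the
`f_i`, is good. -/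
theorem good_of_finite (htame : SGA1.IsTameAlong f (algebraMap A B)) :
    Good A f (⊥ : Ideal B).ResidueField := by
  classical
  have hu : IsUnit (algebraMap A (⊥ : Ideal B).ResidueField (∏ i, f i)) := by
    rw [isUnit_iff_ne_zero, Ne, map_eq_zero_iff _ (FaithfulSMul.algebraMap_injective A _)]
    exact hF
  obtain ⟨φ₁, -⟩ : ∃ φ₁ : Localization.Away (∏ i, f i) →ₐ[A] (⊥ : Ideal B).ResidueField, True :=
    ⟨{ IsLocalization.Away.lift (∏ i, f i) (g := algebraMap A (⊥ : Ideal B).ResidueField) hu with
        commutes' := fun a => IsLocalization.Away.lift_eq _ hu a }, trivial⟩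
  obtain ⟨ψ, hψ⟩ : ∃ ψ : (Localization.Away (∏ i, f i)) ⊗[A] B →ₐ[A] (⊥ : Ideal B).ResidueField,
      ∀ b : B, ψ (1 ⊗ₜ b) = algebraMap B (⊥ : Ideal B).ResidueField b := by
    refine ⟨Algebra.TensorProduct.productMap φ₁ (IsScalarTower.toAlgHom A B _), fun b => ?_⟩
    rw [Algebra.TensorProduct.productMap_apply_tmul, map_one, one_mul]
    rfl
  letI algEL : Algebra ((Localization.Away (∏ i, f i)) ⊗[A] B) (⊥ : Ideal B).ResidueField :=
    ψ.toRingHom.toAlgebra
  haveI : IsScalarTower A ((Localization.Away (∏ i, f i)) ⊗[A] B) (⊥ : Ideal B).ResidueField := by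
    refine ⟨fun a e l => ?_⟩
    show ψ (a • e) * l = a • (ψ e * l)
    rw [map_smul, smul_mul_assoc]
  refine good_of_etale' A f (Localization.Away (∏ i, f i))
    ((Localization.Away (∏ i, f i)) ⊗[A] B) (⊥ : Ideal B).ResidueField ?_
    (fun i _ => tame_of_isTameAlong A B f htame i)
  intro F' hF'
  rw [eq_top_iff]
  intro x _
  obtain ⟨a, b, -, rfl⟩ := IsFractionRing.div_surjective (A := B) x
  have h1 : ∀ b : B, algebraMap B (⊥ : Ideal B).ResidueField b ∈ F' := by
    intro b
    have h2 := hF' ((1 : Localization.Away (∏ i, f i)) ⊗ₜ[A] b)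
    have h3 : algebraMap ((Localization.Away (∏ i, f i)) ⊗[A] B) (⊥ : Ideal B).ResidueField
        ((1 : Localization.Away (∏ i, f i)) ⊗ₜ[A] b) = ψ (1 ⊗ₜ b) := rfl
    rwa [h3, hψ] at h2
  exact div_mem (h1 a) (h1 b)

end GoodFinite

section KummerField

variable (A : Type u) [CommRing A] [IsRegularLocalRing A] [IsDomain A] {r : ℕ} (f : Fin r → A)
  (hm : ∀ i, f i ∈ maximalIdeal A)
  (hf : LinearIndependent (ResidueField A) (fun i => (maximalIdeal A).toCotangent ⟨f i, hm i⟩))
  [∀ i, (Ideal.span {f i}).IsPrime]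
  (n : Fin r → ℕ) (hn1 : ∀ i, 1 ≤ n i) (hnu : ∀ i, IsUnit ((n i : ℕ) : ResidueField A))
  [IsDomain (SGA1.kummerAlg A f n)]
  [Algebra A (⊥ : Ideal (SGA1.kummerAlg A f n)).ResidueField]
  [IsScalarTower A (SGA1.kummerAlg A f n) (⊥ : Ideal (SGA1.kummerAlg A f n)).ResidueField]
  [FaithfulSMul A (⊥ : Ideal (SGA1.kummerAlg A f n)).ResidueField]

omit [IsRegularLocalRing A] [IsDomain A] in
theorem isUnit_natCast_of_residue [IsLocalRing A] (k : ℕ) (h : IsUnit ((k : ℕ) : ResidueField A)) :
    IsUnit ((k : ℕ) : A) := by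
  apply isUnit_of_map_unit (residue A)
  rwa [map_natCast]

include hm hf hn1 hnu in
set_option maxHeartbeats 1000000 in
/-- the fraction field of a Kummer algebra with invertible exponents is good. -/
theorem good_kummerField : Good A f (⊥ : Ideal (SGA1.kummerAlg A f n)).ResidueField := by
  classical
  have hF : (∏ i, f i) ≠ 0 :=
    Finset.prod_ne_zero_iff.mpr (fun i _ => ne_zero_of_linearIndependent f hm hf i)
  have hnA : ∀ i, IsUnit ((n i : ℕ) : A) := fun i => isUnit_natCast_of_residue A (n i) (hnu i)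
  haveI := finite_kummer A f n hn1
  have hFu : IsUnit (algebraMap A (Localization.Away (∏ i, f i)) (∏ i, f i)) :=
    IsLocalization.Away.algebraMap_isUnit (∏ i, f i)
  rw [map_prod, IsUnit.prod_univ_iff] at hFu
  haveI : Algebra.Etale (Localization.Away (∏ i, f i))
      ((Localization.Away (∏ i, f i)) ⊗[A] SGA1.kummerAlg A f n) :=
    etale_tensor_kummer f n (Localization.Away (∏ i, f i)) hn1
      (fun j => by
        have := (hnA j).map (algebraMap A (Localization.Away (∏ i, f i)))
        rwa [map_natCast] at this)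
      hFu
  refine good_of_finite A f hF (SGA1.kummerAlg A f n)
    (tame_kummer A f (fun i => ne_zero_of_linearIndependent f hm hf i) ?_ n hn1 hnA)
  intro i j hji h
  exact notMem_sq_sup_span f hm hf j i hji (Ideal.mem_sup_right h)

end KummerField

end Groth.Agent.Lib.Helper9.KumCov
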