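import Mathlib
import Groth.Prelude.Def_EtRam
import Groth.Prelude.Def_SGA1
import Groth.Agent.Lib.Helper9.KumCov.EVMul

/-!
# The Kummer field with exact exponents is unramified in codimension one over a regular tame
cover (helper9)
-/

universe u

open IsLocalRing EtRam

namespace Groth.Agent.Lib.Helper9.KumCov

open Groth.Agent.Lib.Helper9.AbhAbs Groth.Agent.Lib.Helper9.KummerTame
  Groth.Agent.Lib.Helper9.AbhyankarCore Groth.Agent.Lib.Helper9.DVRExt
  Groth.Agent.Lib.Helper9.TameBase Groth.Agent.Lib.Helper9.AbhGen

section Unram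

variable (A : Type u) [CommRing A] [IsRegularLocalRing A] [IsDomain A] {r : ℕ} (f : Fin r → A)
  (hm : ∀ i, f i ∈ maximalIdeal A)
  (hf : LinearIndependent (ResidueField A) (fun i => (maximalIdeal A).toCotangent ⟨f i, hm i⟩))
  [∀ i, (Ideal.span {f i}).IsPrime]
  (n : Fin r → ℕ) (hn1 : ∀ i, 1 ≤ n i)
  [IsDomain (SGA1.kummerAlg A f n)]
  (K : Type u) [Field K] [Algebra (SGA1.kummerAlg A f n) K]
  [IsFractionRing (SGA1.kummerAlg A f n) K] [Algebra A K]
  [IsScalarTower A (SGA1.kummerAlg A f n) K] [FaithfulSMul A K]
  (B : Type u) [CommRing B] [IsRegularLocalRing B] [IsDomain B] [Algebra A B] [FaithfulSMul A B]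
  [Algebra.IsIntegral A B]
  (L : Type u) [Field L] [Algebra B L] [IsFractionRing B L] [Algebra A L] [IsScalarTower A B L]
  [FaithfulSMul A L] [FaithfulSMul B L]
  (i : L →+* K) (hcompat : ∀ a : A, i (algebraMap A L a) = algebraMap A K a)
  [Algebra B K] [FaithfulSMul B K]
  (hB : ∀ b : B, algebraMap B K b = i (algebraMap B L b))
  (hGK : Good A f K) (hGL : Good A f L)
  (hn : ∀ (j : Fin r) (V : ValuationSubring L)
    (hdom : Dominates (Localization.AtPrime (Ideal.span ({f j} : Set A)))
      (locLift A L (Ideal.span ({f j} : Set A))) V),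
    eV (locLift A L (Ideal.span ({f j} : Set A))) V hdom = n j)

include hm hf hn1 hcompat hB hGK hGL hn in
set_option maxHeartbeats 4000000 in
theorem unram_codim_one (𝔮 : Ideal B) [𝔮.IsPrime] (h𝔮 : 𝔮.height = 1) :
    IsUnramifiedExt (Localization.AtPrime 𝔮) (locLift B K 𝔮) := by
  classical
  haveI : IsIntegrallyClosed A := Groth.Agent.S9829.result A
  have hAK : ∀ a : A, algebraMap A K a = algebraMap B K (algebraMap A B a) := by
    intro a
    rw [hB, ← IsScalarTower.algebraMap_apply A B L, hcompat]
  have h𝔭1 : (𝔮.under A).height = 1 := height_under_eq_one A B 𝔮 h𝔮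
  haveI := isDVR_of_height_eq_one B 𝔮 h𝔮
  by_cases hF : (∏ i, f i) ∈ 𝔮.under A
  · -- the primes over the divisor
    rw [Ideal.IsPrime.prod_mem_iff] at hF
    obtain ⟨j, -, hj⟩ := hF
    have hfj0 : f j ≠ 0 := ne_zero_of_linearIndependent f hm hf j
    have h𝔭eq : Ideal.span ({f j} : Set A) = 𝔮.under A :=
      eq_span_of_mem (𝔮.under A) h𝔭1 (f j) hfj0 hj
    haveI hlies : 𝔮.LiesOver (Ideal.span ({f j} : Set A)) := ⟨h𝔭eq⟩
    have h𝔭ht : (Ideal.span ({f j} : Set A)).height = 1 := height_span_singleton _ hfj0
    haveI := isDVR_of_height_eq_one A _ h𝔭ht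
    letI algAB : Algebra (Localization.AtPrime (Ideal.span ({f j} : Set A)))
        (Localization.AtPrime 𝔮) :=
      Localization.AtPrime.algebraOfLiesOver (Ideal.span ({f j} : Set A)) 𝔮
    haveI hlocAB : IsLocalHom (algebraMap (Localization.AtPrime (Ideal.span ({f j} : Set A)))
        (Localization.AtPrime 𝔮)) :=
      Localization.isLocalHom_localRingHom (Ideal.span ({f j} : Set A)) 𝔮 (algebraMap A B)
        Ideal.LiesOver.over
    have hAB : ∀ a : A, algebraMap (Localization.AtPrime (Ideal.span ({f j} : Set A)))
        (Localization.AtPrime 𝔮) (algebraMap A _ a) =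
        algebraMap B (Localization.AtPrime 𝔮) (algebraMap A B a) := fun a =>
      Localization.localRingHom_to_map (Ideal.span ({f j} : Set A)) 𝔮 (algebraMap A B)
        Ideal.LiesOver.over a
    have hφ : (locLift B K 𝔮).comp (algebraMap (Localization.AtPrime (Ideal.span ({f j} : Set A)))
        (Localization.AtPrime 𝔮)) = locLift A K (Ideal.span ({f j} : Set A)) := by
      apply locRingHom_ext A _
      intro a
      rw [RingHom.comp_apply, hAB, locLift_algebraMap, locLift_algebraMap, ← hAK a]
    have hi : i.comp (locLift A L (Ideal.span ({f j} : Set A))) =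
        locLift A K (Ideal.span ({f j} : Set A)) := by
      apply locRingHom_ext A _
      intro a
      rw [RingHom.comp_apply, locLift_algebraMap, locLift_algebraMap, hcompat]
    have hiB : i.comp (locLift B L 𝔮) = locLift B K 𝔮 := by
      apply locRingHom_ext B _
      intro b
      rw [RingHom.comp_apply, locLift_algebraMap, locLift_algebraMap, hB]
    intro W hdomW hlocBW
    letI algBW : Algebra (Localization.AtPrime 𝔮) W :=
      (RingHom.codRestrict (locLift B K 𝔮) W hdomW.1).toAlgebra
    show IsWeaklyUnramified (Localization.AtPrime 𝔮) W ∧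
      Algebra.IsSeparable (ResidueField (Localization.AtPrime 𝔮)) (ResidueField W)
    -- `W` dominates `A_(f_j)`
    have hdomWA : Dominates (Localization.AtPrime (Ideal.span ({f j} : Set A)))
        (locLift A K (Ideal.span ({f j} : Set A))) W := by
      rw [← hφ]
      refine ⟨fun a => hdomW.1 _, fun a ha => hdomW.2 _ ?_⟩
      rw [mem_maximalIdeal, mem_nonunits_iff]
      intro hu
      exact ha (isUnit_of_map_unit _ a hu)
    have hdomW' : Dominates (Localization.AtPrime (Ideal.span ({f j} : Set A)))
        (i.comp (locLift A L (Ideal.span ({f j} : Set A)))) W := by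
      rw [hi]
      exact hdomWA
    have hdomV : Dominates (Localization.AtPrime (Ideal.span ({f j} : Set A)))
        (locLift A L (Ideal.span ({f j} : Set A))) (W.comap i) :=
      dominates_comap _ i W hdomW'
    haveI hdvrW : IsDiscreteValuationRing W :=
      isDVR_of_dominates_locLift A (Ideal.span ({f j} : Set A)) K hGK.fin hGK.sep W hdomWA
    haveI hdvrV : IsDiscreteValuationRing (W.comap i) :=
      isDVR_of_dominates_locLift A (Ideal.span ({f j} : Set A)) L hGL.fin hGL.sep _ hdomV
    -- ramification indices
    have hloc : ∀ a : A, (i.comp (locLift A L (Ideal.span ({f j} : Set A))))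
        (algebraMap A (Localization.AtPrime (Ideal.span ({f j} : Set A))) a) =
        algebraMap (SGA1.kummerAlg A f n) K (algebraMap A (SGA1.kummerAlg A f n) a) := by
      intro a
      rw [hi, locLift_algebraMap, IsScalarTower.algebraMap_apply A (SGA1.kummerAlg A f n) K]
    have heW : eV (i.comp (locLift A L (Ideal.span ({f j} : Set A)))) W hdomW' = n j :=
      (kummer_dominating A f hm hf n hn1 j K _ hloc W hdomW').2
    have heV : eV (locLift A L (Ideal.span ({f j} : Set A))) (W.comap i) hdomV = n j :=
      hn j _ hdomV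
    have hmul := eV_mul (locLift A L (Ideal.span ({f j} : Set A)))
      (locLift_injective A L _) i W hdomW' hdomV
    rw [heW, heV] at hmul
    have he1 : @Ideal.ramificationIdx' (W.comap i) _ W _ (inclOfComap W i).toAlgebra
        (maximalIdeal (W.comap i)) (maximalIdeal W) = 1 := by
      have h1 : 1 * n j = @Ideal.ramificationIdx' (W.comap i) _ W _ (inclOfComap W i).toAlgebra
          (maximalIdeal (W.comap i)) (maximalIdeal W) * n j := by
        rw [one_mul]
        exact hmul
      exact (Nat.eq_of_mul_eq_mul_right (by have := hn1 j; omega) h1).symm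
    -- `B_𝔮` is the valuation ring `W ∩ L`
    have hdomVB : Dominates (Localization.AtPrime 𝔮) (locLift B L 𝔮) (W.comap i) := by
      apply dominates_comap _ i W
      rw [hiB]
      exact hdomW
    obtain ⟨χ, hχ⟩ : ∃ χ : Localization.AtPrime 𝔮 →+* (W.comap i),
        χ = RingHom.codRestrict (locLift B L 𝔮) (W.comap i) hdomVB.1 := ⟨_, rfl⟩
    have hχc : ∀ x, ((χ x : W.comap i) : L) = locLift B L 𝔮 x := by
      intro x
      rw [hχ]
      rfl
    haveI hχloc : IsLocalHom χ := by
      rw [hχ]
      exact isLocalHom_of_dominates _ _ hdomVB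
    have hχinj : Function.Injective χ := by
      intro a b hab
      apply locLift_injective B L 𝔮
      rw [← hχc, ← hχc, hab]
    have hχbij : Function.Bijective χ := by
      apply bijective_of_generates (W.comap i) χ hχinj
      intro E hE
      rw [eq_top_iff]
      intro x _
      obtain ⟨a, b, hb, rfl⟩ := IsFractionRing.div_surjective (A := B) x
      refine div_mem ?_ ?_
      · have := hE (algebraMap B _ a)
        rwa [hχc, locLift_algebraMap] at this
      · have := hE (algebraMap B _ b)
        rwa [hχc, locLift_algebraMap] at this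
    obtain ⟨ϖ, hϖ⟩ := IsDiscreteValuationRing.exists_irreducible (Localization.AtPrime 𝔮)
    obtain ⟨τ, hτ⟩ := IsDiscreteValuationRing.exists_irreducible W
    have hχϖ : Irreducible (χ ϖ) :=
      (MulEquiv.irreducible_iff (RingEquiv.ofBijective χ hχbij).toMulEquiv).mpr hϖ
    refine ⟨?_, ?_⟩
    · -- weakly unramified
      have hιinj : Function.Injective (inclOfComap W i) := by
        intro a b hab
        have := congrArg (fun v : W => (v : K)) hab
        exact Subtype.ext (i.injective this)
      have hy : ∃ y : Wˣ, algebraMap (Localization.AtPrime 𝔮) W ϖ = y * τ := by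
        letI algVW : Algebra (W.comap i) W := (inclOfComap W i).toAlgebra
        haveI hloc3 : IsLocalHom (algebraMap (W.comap i) W) := isLocalHom_inclOfComap W i
        obtain ⟨-, y, hy⟩ := exists_eq_unit_mul_pow (A := W.comap i) (V := W) hιinj hχϖ hτ
        refine ⟨y, ?_⟩
        have h1 : algebraMap (Localization.AtPrime 𝔮) W ϖ = inclOfComap W i (χ ϖ) := by
          apply Subtype.ext
          show locLift B K 𝔮 ϖ = i ((χ ϖ : W.comap i) : L)
          rw [hχc, ← hiB]
          rfl
        rw [h1]
        have h2 : inclOfComap W i (χ ϖ) = y * τ ^ Ideal.ramificationIdx'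
            (maximalIdeal (W.comap i)) (maximalIdeal W) := hy
        rw [h2, he1, pow_one]
      obtain ⟨y, hy⟩ := hy
      show (maximalIdeal (Localization.AtPrime 𝔮)).map (algebraMap (Localization.AtPrime 𝔮) W) =
        maximalIdeal W
      rw [hϖ.maximalIdeal_eq, Ideal.map_span, Set.image_singleton, hτ.maximalIdeal_eq, hy,
        Ideal.span_singleton_eq_span_singleton]
      exact associated_unit_mul_left τ (y : W) y.isUnit
    · -- separable residue field extension
      letI algAW : Algebra (Localization.AtPrime (Ideal.span ({f j} : Set A))) W :=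
        (RingHom.codRestrict (locLift A K (Ideal.span ({f j} : Set A))) W hdomWA.1).toAlgebra
      haveI hlocAW : IsLocalHom (algebraMap (Localization.AtPrime (Ideal.span ({f j} : Set A)))
          W) := isLocalHom_of_dominates _ W hdomWA
      haveI tow : IsScalarTower (Localization.AtPrime (Ideal.span ({f j} : Set A)))
          (Localization.AtPrime 𝔮) W := by
        apply IsScalarTower.of_algebraMap_eq
        intro a
        apply Subtype.ext
        show locLift A K (Ideal.span ({f j} : Set A)) a = locLift B K 𝔮 (algebraMap _ _ a)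
        rw [← hφ]
        rfl
      have hsepAW : Algebra.IsSeparable
          (ResidueField (Localization.AtPrime (Ideal.span ({f j} : Set A)))) (ResidueField W) :=
        ((hGK.tame j) W hdomWA).1
      haveI := hsepAW
      exact Algebra.isSeparable_tower_top_of_isSeparable
        (ResidueField (Localization.AtPrime (Ideal.span ({f j} : Set A))))
        (ResidueField (Localization.AtPrime 𝔮)) (ResidueField W)
  · -- the primes off the divisor
    haveI := isDVR_of_height_eq_one A (𝔮.under A) h𝔭1
    exact unram_baseChange A B (𝔮.under A) 𝔮 K K (RingHom.id K) (fun a => hAK a)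
      (fun E h1 _ => eq_top_iff.mpr (fun x _ => h1 ⟨x, rfl⟩)) hGK.fin hGK.sep
      (hGK.unram (𝔮.under A) h𝔭1 hF)

end Unram

end Groth.Agent.Lib.Helper9.KumCov
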