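import Mathlib
import Groth.Prelude.Def_EtRam
import Groth.Prelude.Def_SGA1
import Groth.Agent.Lib.Helper9.KumCov.EVMul
import Groth.Agent.Lib.Helper9.KumCov.GoodKummer
import Groth.Agent.Lib.Helper9.KumCov.BaseB
import Groth.Agent.Lib.Helper9.KumCov.Unram
import Groth.Agent.Lib.Helper9.AbhAbs.Main

/-!
# A connected regular tame cover of a strictly henselian regular local ring is a Kummer cover
(helper9)
-/

universe u

open IsLocalRing EtRam TensorProduct

namespace Groth.Agent.Lib.Helper9.KumCov

open Groth.Agent.Lib.Helper9.AbhAbs Groth.Agent.Lib.Helper9.KummerTame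
  Groth.Agent.Lib.Helper9.AbhyankarCore Groth.Agent.Lib.Helper9.DVRExt
  Groth.Agent.Lib.Helper9.TameBase Groth.Agent.Lib.Helper9.AbhGen
  Groth.Agent.Lib.Helper9.AbhSch

set_option maxHeartbeats 4000000 in
theorem kummer_of_regular_cover
    (A : Type u) [CommRing A] [IsRegularLocalRing A] [IsDomain A] [HenselianLocalRing A]
    [IsSepClosed (ResidueField A)] (r : ℕ) (f : Fin r → A)
    (hm : ∀ i, f i ∈ maximalIdeal A)
    (hf : LinearIndependent (ResidueField A) (fun i => (maximalIdeal A).toCotangent ⟨f i, hm i⟩))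
    [∀ i, (Ideal.span {f i}).IsPrime]
    (B : Type u) [CommRing B] [IsDomain B] [Algebra A B] [Module.Finite A B] [Module.Free A B]
    (hreg : ∀ (q : Ideal B) [q.IsPrime], IsRegularLocalRing (Localization.AtPrime q))
    [Algebra.Etale (Localization.Away (∏ i, f i)) (TensorProduct A (Localization.Away (∏ i, f i)) B)]
    (htame : SGA1.IsTameAlong f (algebraMap A B)) :
    ∃ n : Fin r → ℕ, (∀ i, 1 ≤ n i) ∧ (∀ i, IsUnit ((n i : ℕ) : ResidueField A)) ∧
      Nonempty (B ≃ₐ[A] SGA1.kummerAlg A f n) := by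
  classical
  haveI : Algebra.IsIntegral A B := Algebra.IsIntegral.of_finite A B
  haveI : FaithfulSMul A B := inferInstance
  have hinjAB : Function.Injective (algebraMap A B) := FaithfulSMul.algebraMap_injective A B
  haveI hlocB : IsLocalRing B := isLocalRing_of_finite_domain A B
  haveI hregB : IsRegularLocalRing B := isRegularLocalRing_of_atPrime B (hreg (maximalIdeal B))
  haveI : HenselianLocalRing B := henselianLocalRing_of_finite A B
  haveI : IsSepClosed (ResidueField B) := isSepClosed_residueField_of_finite A B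
  haveI : IsIntegrallyClosed B := Groth.Agent.S9829.result B
  have hF : (∏ i, f i) ≠ 0 :=
    Finset.prod_ne_zero_iff.mpr (fun i _ => ne_zero_of_linearIndependent f hm hf i)
  -- the fraction field of `B`
  letI algAL : Algebra A (⊥ : Ideal B).ResidueField :=
    ((algebraMap B (⊥ : Ideal B).ResidueField).comp (algebraMap A B)).toAlgebra
  haveI towABL : IsScalarTower A B (⊥ : Ideal B).ResidueField :=
    IsScalarTower.of_algebraMap_eq (fun _ => rfl)
  haveI faithAL : FaithfulSMul A (⊥ : Ideal B).ResidueField :=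
    (faithfulSMul_iff_algebraMap_injective A (⊥ : Ideal B).ResidueField).mpr
      ((algebraMap_botResidueField_injective B).comp hinjAB)
  have hGL : Good A f (⊥ : Ideal B).ResidueField := good_of_finite A f hF B htame
  obtain ⟨m, hm1, hmu, hTm⟩ := theoremI A f hm hf (⊥ : Ideal B).ResidueField hGL
  -- the exponents
  have hex : ∀ j, ∃ e : ℕ, 1 ≤ e ∧ e ∣ m j ∧
      ∀ (V : ValuationSubring (⊥ : Ideal B).ResidueField)
        (hdom : Dominates (Localization.AtPrime (Ideal.span ({f j} : Set A)))
          (locLift A (⊥ : Ideal B).ResidueField (Ideal.span ({f j} : Set A))) V),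
        eV (locLift A (⊥ : Ideal B).ResidueField (Ideal.span ({f j} : Set A))) V hdom = e := by
    intro j
    by_cases h : ∃ V : ValuationSubring (⊥ : Ideal B).ResidueField,
        Dominates (Localization.AtPrime (Ideal.span ({f j} : Set A)))
          (locLift A (⊥ : Ideal B).ResidueField (Ideal.span ({f j} : Set A))) V
    · obtain ⟨V₀, hdom₀⟩ := h
      have hdvd := eV_dvd_of_triv A f hm hf m hm1 (⊥ : Ideal B).ResidueField hGL.fin hGL.sep hTm j
        V₀ hdom₀
      refine ⟨eV _ V₀ hdom₀, ?_, hdvd, fun V hdom => ?_⟩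
      · apply Nat.pos_of_ne_zero
        intro h0
        rw [h0] at hdvd
        have h1 := Nat.eq_zero_of_zero_dvd hdvd
        have h2 := hm1 j
        omega
      · have hVV := unique_dominating_of_triv A f hm hf m hm1 (⊥ : Ideal B).ResidueField hGL.fin
          hGL.sep hTm j V V₀ hdom hdom₀
        subst hVV
        rfl
    · exact ⟨1, le_rfl, one_dvd _, fun V hdom => (h ⟨V, hdom⟩).elim⟩
  choose n hn1 hndvd hn using hex
  have hnu : ∀ j, IsUnit ((n j : ℕ) : ResidueField A) := by
    intro j
    obtain ⟨c, hc⟩ := hndvd j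
    have h1 := hmu j
    rw [hc, Nat.cast_mul] at h1
    exact isUnit_of_mul_isUnit_left h1
  have hTn : Triv A f n (⊥ : Ideal B).ResidueField :=
    triv_of_dvd A f hm hf n hn1 (⊥ : Ideal B).ResidueField hGL
      (fun j _ V hdom => by rw [hn j V hdom])
  refine ⟨n, hn1, hnu, ?_⟩
  -- the Kummer algebra and its fraction field
  haveI hregK : IsRegularLocalRing (SGA1.kummerAlg A f n) :=
    isRegularLocalRing_kummer A f hm hf n hn1
  haveI : IsDomain (SGA1.kummerAlg A f n) :=
    Groth.Agent.Lib.Helper85.isDomain_of_isRegularLocalRing _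
  haveI : IsIntegrallyClosed (SGA1.kummerAlg A f n) := Groth.Agent.S9829.result _
  haveI : Algebra.IsIntegral A (SGA1.kummerAlg A f n) := isIntegral_kummer A f n hn1
  have hinjAK : Function.Injective (algebraMap A (SGA1.kummerAlg A f n)) :=
    algebraMap_kummer_injective A f n hn1
  letI algAK : Algebra A (⊥ : Ideal (SGA1.kummerAlg A f n)).ResidueField :=
    ((algebraMap (SGA1.kummerAlg A f n) (⊥ : Ideal (SGA1.kummerAlg A f n)).ResidueField).comp
      (algebraMap A (SGA1.kummerAlg A f n))).toAlgebra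
  haveI towAK : IsScalarTower A (SGA1.kummerAlg A f n)
      (⊥ : Ideal (SGA1.kummerAlg A f n)).ResidueField := by
    have h : @IsScalarTower A (SGA1.kummerAlg A f n)
        (⊥ : Ideal (SGA1.kummerAlg A f n)).ResidueField Algebra.toSMul Algebra.toSMul
        Algebra.toSMul := IsScalarTower.of_algebraMap_eq (fun _ => rfl)
    exact h
  haveI faithAK : FaithfulSMul A (⊥ : Ideal (SGA1.kummerAlg A f n)).ResidueField :=
    (faithfulSMul_iff_algebraMap_injective A _).mpr
      ((algebraMap_botResidueField_injective (SGA1.kummerAlg A f n)).comp hinjAK)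
  obtain ⟨i, hi⟩ := exists_embedding_of_triv A f hm hf n hn1 (⊥ : Ideal B).ResidueField
    hGL.fin hGL.sep hTn
  have hcompat : ∀ a : A, i (algebraMap A (⊥ : Ideal B).ResidueField a) =
      algebraMap A (⊥ : Ideal (SGA1.kummerAlg A f n)).ResidueField a := fun a => hi a
  letI algBK : Algebra B (⊥ : Ideal (SGA1.kummerAlg A f n)).ResidueField :=
    (i.comp (algebraMap B (⊥ : Ideal B).ResidueField)).toAlgebra
  have hinjBK : Function.Injective
      (algebraMap B (⊥ : Ideal (SGA1.kummerAlg A f n)).ResidueField) :=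
    i.injective.comp (algebraMap_botResidueField_injective B)
  haveI faithBK : FaithfulSMul B (⊥ : Ideal (SGA1.kummerAlg A f n)).ResidueField :=
    (faithfulSMul_iff_algebraMap_injective B _).mpr hinjBK
  have hB : ∀ b : B, algebraMap B (⊥ : Ideal (SGA1.kummerAlg A f n)).ResidueField b =
      i (algebraMap B (⊥ : Ideal B).ResidueField b) := fun _ => rfl
  have hGK : Good A f (⊥ : Ideal (SGA1.kummerAlg A f n)).ResidueField :=
    good_kummerField A f hm hf n hn1 hnu
  have hunram : ∀ (𝔮 : Ideal B) [𝔮.IsPrime], 𝔮.height = 1 →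
      IsUnramifiedExt (Localization.AtPrime 𝔮)
        (locLift B (⊥ : Ideal (SGA1.kummerAlg A f n)).ResidueField 𝔮) := fun 𝔮 _ h𝔮 =>
    unram_codim_one A f hm hf n hn1 (⊥ : Ideal (SGA1.kummerAlg A f n)).ResidueField B
      (⊥ : Ideal B).ResidueField i hcompat hB hGK hGL hn 𝔮 h𝔮
  have hAK : ∀ a : A, algebraMap A (⊥ : Ideal (SGA1.kummerAlg A f n)).ResidueField a =
      algebraMap B (⊥ : Ideal (SGA1.kummerAlg A f n)).ResidueField (algebraMap A B a) := by
    intro a
    rw [hB, ← IsScalarTower.algebraMap_apply A B (⊥ : Ideal B).ResidueField, hcompat]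
  haveI towABK : IsScalarTower A B (⊥ : Ideal (SGA1.kummerAlg A f n)).ResidueField :=
    IsScalarTower.of_algebraMap_eq hAK
  obtain ⟨hfinBK, hsepBK⟩ := finsep_baseChange A B
    (⊥ : Ideal (SGA1.kummerAlg A f n)).ResidueField (⊥ : Ideal (SGA1.kummerAlg A f n)).ResidueField
    (RingHom.id _) (fun a => hAK a) (fun E h1 _ => eq_top_iff.mpr (fun x _ => h1 ⟨x, rfl⟩))
    hGK.fin hGK.sep
  obtain ⟨h1, h2⟩ := etale_integralClosure_of_unram B
    (⊥ : Ideal (SGA1.kummerAlg A f n)).ResidueField hfinBK hsepBK hunram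
  haveI := h1
  haveI := h2
  have htriv := trivial_of_etale B (⊥ : Ideal (SGA1.kummerAlg A f n)).ResidueField hfinBK
  haveI frBK : IsFractionRing B (⊥ : Ideal (SGA1.kummerAlg A f n)).ResidueField := by
    apply IsFractionRing.of_field
    intro z
    obtain ⟨a, b, hb, hz⟩ := htriv z
    refine ⟨a, b, ?_⟩
    have hb' : algebraMap B (⊥ : Ideal (SGA1.kummerAlg A f n)).ResidueField b ≠ 0 := by
      rw [Ne, map_eq_zero_iff _ hinjBK]
      exact hb
    rw [eq_div_iff hb', hz]
  haveI icB : IsIntegralClosure B A (⊥ : Ideal (SGA1.kummerAlg A f n)).ResidueField :=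
    IsIntegralClosure.of_isIntegrallyClosed B A _
  haveI icK : IsIntegralClosure (SGA1.kummerAlg A f n) A
      (⊥ : Ideal (SGA1.kummerAlg A f n)).ResidueField :=
    IsIntegralClosure.of_isIntegrallyClosed (SGA1.kummerAlg A f n) A _
  exact ⟨IsIntegralClosure.equiv A B (⊥ : Ideal (SGA1.kummerAlg A f n)).ResidueField
    (SGA1.kummerAlg A f n)⟩

end Groth.Agent.Lib.Helper9.KumCov
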